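import Cfsg.Agent.H28.CITGraph.Families
import Cfsg.Agent.H11.CIT.Interface
import Cfsg.Agent.H76.Zsigmondy
import Cfsg.Agent.H39.L34.Upper

/-!
Prime graph characterisations of `PSL₂(2^m)` and `Sz(q)`, from the classification of CIT groups.
-/

set_option autoImplicit false
set_option linter.unusedSectionVars false
set_option linter.style.haveILetI false
set_option linter.deprecated false

namespace H28.CITGraph

open H11.CIT

universe u v

/-- The two groups have the same prime graph. -/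
def SameGraph (L : Type v) (G : Type u) [Group L] [Group G] : Prop :=
  (∀ r : ℕ, r.Prime → (r ∣ Nat.card L ↔ r ∣ Nat.card G)) ∧
    ∀ r s : ℕ, r.Prime → s.Prime → r ≠ s →
      ((∃ x : L, orderOf x = r * s) ↔ ∃ y : G, orderOf y = r * s)

theorem pow_sub_dvd_iff {r j : ℕ} [Fact r.Prime] : r ∣ 2 ^ j - 1 ↔ orderOf (2 : ZMod r) ∣ j := by
  rw [orderOf_dvd_iff_pow_eq_one, ← ZMod.natCast_eq_zero_iff, Nat.cast_sub Nat.one_le_two_pow,
    sub_eq_zero, Nat.cast_pow, Nat.cast_one]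
  norm_num

theorem sq_sub_one (k : ℕ) : 2 ^ (2 * k) - 1 = (2 ^ k + 1) * (2 ^ k - 1) := by
  rw [← Nat.sq_sub_sq, one_pow, ← pow_mul, mul_comm k 2]

theorem le_of_primitive {r n : ℕ} [Fact r.Prime] (hn : 2 ≤ n) (ho : orderOf (2 : ZMod r) = n) :
    n + 1 ≤ r := by
  have h2 : (2 : ZMod r) ≠ 0 := fun h => by
    rw [h] at ho
    have : orderOf (0 : ZMod r) = 0 := orderOf_eq_zero_iff'.2 fun k hk => by
      rw [zero_pow hk.ne']; exact zero_ne_one
    omega
  have h := ZMod.orderOf_dvd_card_sub_one h2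
  rw [ho] at h
  have h3 := (Fact.out : r.Prime).two_le
  have := Nat.le_of_dvd (by omega) h
  omega

theorem dvd_card_quotient {G : Type u} [Group G] [Finite G] [(Cfsg.pCore 2 G).Normal] {r : ℕ}
    (hr : r.Prime) (hr2 : r ≠ 2) :
    r ∣ Nat.card (G ⧸ Cfsg.pCore 2 G) ↔ r ∣ Nat.card G := by
  haveI : Fact (Nat.Prime 2) := ⟨Nat.prime_two⟩
  obtain ⟨k, hk⟩ := H1.card_pCore_eq_pow 2 G
  rw [Subgroup.card_eq_card_quotient_mul_card_subgroup (Cfsg.pCore 2 G), hk]
  refine ⟨fun h => dvd_mul_of_dvd_left h _, fun h => (hr.dvd_mul.1 h).resolve_right fun h' => hr2 ?_⟩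
  exact (Nat.prime_dvd_prime_iff_eq hr Nat.prime_two).1 (hr.dvd_of_dvd_pow h')

theorem socle_cases {G : Type u} [Group G] [Finite G] [(Cfsg.pCore 2 G).Normal]
    (hclass : CITClass.{u}) (hG : IsCIT G) (hns : ¬ Group.IsSolvable G) :
    ∃ N : Subgroup (G ⧸ Cfsg.pCore 2 G), N.Normal ∧
      Subgroup.centralizer (N : Set (G ⧸ Cfsg.pCore 2 G)) = ⊥ ∧ CITList N := by
  haveI : Fact (Nat.Prime 2) := ⟨Nat.prime_two⟩
  have hQ := isCIT_quotient hG (Cfsg.pCore 2 G)
  have hns' : ¬ Group.IsSolvable (G ⧸ Cfsg.pCore 2 G) := by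
    intro h
    apply hns
    haveI := (H1.isPGroup_pCore 2 G).isNilpotent
    exact solvable_of_ker_le_range (Cfsg.pCore 2 G).subtype (QuotientGroup.mk' (Cfsg.pCore 2 G))
      (by simp)
  obtain ⟨N, hNn, hNs, hNc, hC⟩ :=
    exists_simple hQ hns' (H1.pCore_quotient_pCore 2 G)
  exact ⟨N, hNn, hC, hclass N hNc (hQ.subgroup N)⟩

theorem three_dvd_psl2 {E : Type*} [Field E] [Fintype E] :
    3 ∣ Nat.card (Matrix.ProjectiveSpecialLinearGroup (Fin 2) E) := by
  have h := H39.card_PSL2_mul (F := E)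
  have hq : 1 ≤ Fintype.card E := Fintype.card_pos
  have h3 : 3 ∣ Fintype.card E * (Fintype.card E ^ 2 - 1) := by
    have : Fintype.card E % 3 = 0 ∨ Fintype.card E % 3 = 1 ∨ Fintype.card E % 3 = 2 := by omega
    rcases this with h | h | h
    · exact dvd_mul_of_dvd_left (Nat.dvd_of_mod_eq_zero h) _
    all_goals
      refine dvd_mul_of_dvd_right ?_ _
      have h2 : Fintype.card E ^ 2 % 3 = 1 := by rw [Nat.pow_mod, h]
      have : 1 ≤ Fintype.card E ^ 2 := Nat.one_le_pow _ _ hq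
      omega
  rw [← h] at h3
  refine (Nat.prime_three.dvd_mul.1 h3).resolve_left fun h' => ?_
  have := Nat.le_of_dvd two_pos (h'.trans (Nat.gcd_dvd_left 2 _))
  omega

theorem two_part_le {n j b : ℕ} (h : ¬ 2 ^ (b + 1) ∣ n) (hj : 2 ^ j ∣ n) : j ≤ b := by
  by_contra hc
  exact h ((pow_dvd_pow 2 (by omega)).trans hj)

/-- An odd prime dividing `|G|` but not the socle is small. -/
theorem primitive_dvd_socle {H : Type u} [Group H] [Finite H] (hH : IsCIT H) (N : Subgroup H)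
    [N.Normal] {R t c b : ℕ} (hR : R.Prime) (hR2 : R ≠ 2) (hRH : R ∣ Nat.card H)
    (ht : orderOf (2 : ZMod R) = t) (hc : Nat.card N = c) (hev : 2 ∣ c) (hb : ¬ 2 ^ (b + 1) ∣ c)
    (hbt : b < t) : R ∣ c := by
  haveI := Fact.mk hR
  by_contra hn
  have h1 := prime_dvd_two_part hH N hR hR2 hRH (hc ▸ hn)
  rw [hc, pow_sub_dvd_iff, ht] at h1
  have h2 : c.factorization 2 ≤ b := two_part_le hb (Nat.ordProj_dvd c 2)
  have h3 : 0 < c.factorization 2 :=
    Nat.prime_two.factorization_pos_of_dvd (hc ▸ Nat.card_pos.ne') hev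
  have := Nat.le_of_dvd h3 h1
  omega

/-- The arithmetic excluding `PSL₂(p)`, `p` a Fermat or Mersenne prime. -/
theorem prime_field_false {m p k : ℕ} (hm : 4 ≤ m) (hp : p.Prime)
    (hk : p = 2 ^ k + 1 ∨ p + 1 = 2 ^ k)
    (hdiv : ∀ r : ℕ, r.Prime → r ≠ 2 → r ∣ 2 ^ (2 * m) - 1 → r ∣ p * (p ^ 2 - 1))
    (hp_dvd : p ≠ 2 → p ∣ 2 ^ (2 * m) - 1) : False := by
  obtain ⟨R, hR, hRd, hRo⟩ := H76.exists_primitive_two (n := 2 * m) (by omega) (by omega)
  haveI := Fact.mk hR
  haveI := Fact.mk hp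
  have hR9 := le_of_primitive (by omega) hRo
  have hR2 : ¬ R ∣ 2 := fun h => by have := Nat.le_of_dvd two_pos h; omega
  have hRp := hdiv R hR (fun h => hR2 (h ▸ dvd_rfl)) hRd
  have hp2 : p ≠ 2 := by
    rintro rfl
    norm_num at hRp
    have := Nat.le_of_dvd (by norm_num) hRp
    omega
  have hp' := hp_dvd hp2
  rw [pow_sub_dvd_iff] at hp'
  set o := orderOf (2 : ZMod p) with ho
  have hpo : p ∣ 2 ^ o - 1 := pow_sub_dvd_iff.2 dvd_rfl
  have hp3 : 3 ≤ p := by have := hp.two_le; omega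
  have hpf : p ^ 2 - 1 = (p + 1) * (p - 1) := by rw [← Nat.sq_sub_sq, one_pow]
  rw [hpf] at hRp
  have ho0 : o ≠ 0 := fun h => by rw [h, zero_dvd_iff] at hp'; omega
  have hpo' : p ≤ 2 ^ o - 1 := Nat.le_of_dvd
    (by have := Nat.one_lt_two_pow ho0; omega) hpo
  rcases hk with rfl | hk
  · -- Fermat
    have hk0 : k ≠ 0 := by rintro rfl; exact hp2 rfl
    have ho2k : o ∣ 2 * k := by
      rw [ho, ← pow_sub_dvd_iff, sq_sub_one]
      exact dvd_mul_right _ _
    have hko : k < o := by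
      refine (Nat.pow_lt_pow_iff_right one_lt_two).1 ?_
      omega
    have hok : o = 2 * k := by
      obtain ⟨c, hc⟩ := ho2k
      rcases c with _ | _ | c
      · omega
      · omega
      · exfalso
        have : 2 * o ≤ o * (c + 1 + 1) := by rw [mul_comm 2 o]; exact Nat.mul_le_mul_left o (by omega)
        omega
    rw [hok] at hp'
    have hkm : k ≤ m := by have := Nat.le_of_dvd (by omega) hp'; omega
    have hsucc : 2 ^ k + 1 + 1 = 2 * (2 ^ (k - 1) + 1) := by
      rw [mul_add, ← pow_succ', Nat.sub_add_cancel (by omega : 1 ≤ k)]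
    have cases : ∀ r : ℕ, r.Prime → ¬ r ∣ 2 → r ∣ (2 ^ k + 1) * ((2 ^ k + 1 + 1) * (2 ^ k + 1 - 1)) →
        r ∣ 2 ^ k + 1 ∨ r ∣ 2 ^ (k - 1) + 1 := by
      intro r hr hr2 h
      rcases hr.dvd_mul.1 h with h | h
      · exact Or.inl h
      rcases hr.dvd_mul.1 h with h | h
      · rw [hsucc] at h
        exact Or.inr ((hr.dvd_mul.1 h).resolve_left hr2)
      · rw [Nat.add_sub_cancel] at h
        exact absurd (hr.dvd_of_dvd_pow h) hr2
    rcases cases R hR hR2 hRp with h | h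
    · have h1 : R ∣ 2 ^ (2 * k) - 1 := by rw [sq_sub_one]; exact dvd_mul_of_dvd_left h _
      rw [pow_sub_dvd_iff, hRo] at h1
      have hmk : k = m := by have := Nat.le_of_dvd (by omega) h1; omega
      subst hmk
      have hk6 : k ≠ 6 := by rintro rfl; norm_num at hp
      obtain ⟨r, hr, hrd, hro⟩ := H76.exists_primitive_two (n := k) (by omega) hk6
      haveI := Fact.mk hr
      have hr5 := le_of_primitive (by omega) hro
      have hr2 : ¬ r ∣ 2 := fun h => by have := Nat.le_of_dvd two_pos h; omega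
      have hrm : r ∣ 2 ^ (2 * k) - 1 := by rw [sq_sub_one]; exact dvd_mul_of_dvd_right hrd _
      have hrp := hdiv r hr (fun h => hr2 (h ▸ dvd_rfl)) hrm
      rw [hpf] at hrp
      have h1k : 1 ≤ 2 ^ k := Nat.one_le_two_pow
      rcases cases r hr hr2 hrp with h' | h'
      · apply hr2
        have := Nat.dvd_sub h' hrd
        rwa [show 2 ^ k + 1 - (2 ^ k - 1) = 2 by omega] at this
      · have h3 := Nat.dvd_sub (dvd_mul_of_dvd_right h' 2) hrd
        have h2k : 2 * (2 ^ (k - 1) + 1) - (2 ^ k - 1) = 3 := by rw [← hsucc]; omega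
        rw [h2k] at h3
        have := Nat.le_of_dvd (by norm_num) h3
        omega
    · rcases Nat.eq_zero_or_pos (k - 1) with hk1 | hk1
      · rw [hk1] at h
        exact hR2 (by simpa using h)
      have h1 : R ∣ 2 ^ (2 * (k - 1)) - 1 := by rw [sq_sub_one]; exact dvd_mul_of_dvd_left h _
      rw [pow_sub_dvd_iff, hRo] at h1
      have := Nat.le_of_dvd (by omega) h1
      omega
  · -- Mersenne
    have hpk : p = 2 ^ k - 1 := by omega
    have hk2 : 2 ≤ k := by
      by_contra hc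
      interval_cases k <;> omega
    have hok : o = k := by
      refine Nat.le_antisymm (Nat.le_of_dvd (by omega) ?_) ?_
      · rw [ho, ← pow_sub_dvd_iff, ← hpk]
      · have hle : 2 ^ k ≤ 2 ^ o := by omega
        exact (Nat.pow_le_pow_iff_right one_lt_two).1 hle
    rw [hok] at hp'
    have hk2m : k ≤ 2 * m := Nat.le_of_dvd (by omega) hp'
    rcases hR.dvd_mul.1 hRp with h | h
    · rw [hpk, pow_sub_dvd_iff, hRo] at h
      have hkeq : k = 2 * m := by have := Nat.le_of_dvd (by omega) h; omega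
      have h3 : 3 ∣ p := by
        rw [hpk, hkeq, pow_mul]
        norm_num
        simpa using Nat.sub_dvd_pow_sub_pow 4 1 m
      have := (Nat.prime_dvd_prime_iff_eq Nat.prime_three hp).1 h3
      have : 2 ^ 4 ≤ 2 ^ k := Nat.pow_le_pow_right two_pos (by omega)
      omega
    rcases hR.dvd_mul.1 h with h | h
    · rw [hk] at h
      exact hR2 (hR.dvd_of_dvd_pow h)
    · have h1 : p - 1 = 2 * (2 ^ (k - 1) - 1) := by
        rw [Nat.mul_sub, ← pow_succ', Nat.sub_add_cancel (by omega : 1 ≤ k)]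
        omega
      rw [h1] at h
      have h2 := (hR.dvd_mul.1 h).resolve_left hR2
      rw [pow_sub_dvd_iff, hRo] at h2
      have := Nat.le_of_dvd (by omega) h2
      omega

theorem psl2_two_graph (hclass : CITClass.{u}) {G : Type u} [Group G] [Finite G]
    {F : Type v} [Field F] [Fintype F] (m : ℕ) (hm : 4 ≤ m) (hF : Fintype.card F = 2 ^ m)
    (h : SameGraph (Matrix.ProjectiveSpecialLinearGroup (Fin 2) F) G)
    [(Cfsg.pCore 2 G).Normal] :
    Nonempty (G ⧸ Cfsg.pCore 2 G ≃* Matrix.ProjectiveSpecialLinearGroup (Fin 2) F) := by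
  haveI : Fact (Nat.Prime 2) := ⟨Nat.prime_two⟩
  have hL := card_psl2_two (by omega) hF
  have hodd : ∀ r : ℕ, r.Prime → r ≠ 2 →
      (r ∣ Nat.card G ↔ r ∣ 2 ^ (2 * m) - 1) := by
    intro r hr hr2
    rw [← h.1 r hr, hL, sq_sub_one, mul_comm (2 ^ m + 1)]
    refine ⟨fun hd => (hr.dvd_mul.1 hd).resolve_left fun h' => hr2 ?_, fun hd => dvd_mul_of_dvd_right hd _⟩
    exact (Nat.prime_dvd_prime_iff_eq hr Nat.prime_two).1 (hr.dvd_of_dvd_pow h')
  have h2m : (2 : ℕ) ^ m - 1 ≠ 1 := by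
    have : 2 ^ 4 ≤ 2 ^ m := Nat.pow_le_pow_right two_pos hm
    omega
  have h2mp : 2 ^ m + 1 ≠ 1 := by have := Nat.one_le_two_pow (n := m); omega
  have hev : 2 ∣ 2 ^ m := dvd_pow_self 2 (by omega)
  have h1m : 1 ≤ 2 ^ m := Nat.one_le_two_pow
  have no2 : ∀ r : ℕ, r.Prime → (r ∣ 2 ^ m - 1 ∨ r ∣ 2 ^ m + 1) → r ≠ 2 := by
    rintro r - h rfl; omega
  have hG : IsCIT G := isCIT_of_graph fun r hr hr2 hg => by
    obtain ⟨x, hx⟩ := (h.2 2 r Nat.prime_two hr (Ne.symm hr2)).2 hg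
    have hrL : r ∣ Nat.card (Matrix.ProjectiveSpecialLinearGroup (Fin 2) F) :=
      (dvd_mul_left r 2).trans (hx ▸ orderOf_dvd_natCard x)
    rw [hL] at hrL
    rcases hr.dvd_mul.1 hrL with h' | h'
    · exact hr2 ((Nat.prime_dvd_prime_iff_eq hr Nat.prime_two).1 (hr.dvd_of_dvd_pow h'))
    rcases hr.dvd_mul.1 h' with h' | h'
    · exact psl2_two_no_mixed hF hr Nat.prime_two hr2 h' (Or.inr rfl) ⟨x, hx.trans (mul_comm 2 r)⟩
    · -- an element of order `2 r` with `r ∣ q + 1`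
      haveI := charTwo_of_card hF
      have hmem : 2 * r ∈ Set.range (orderOf : Matrix.ProjectiveSpecialLinearGroup (Fin 2) F → ℕ) :=
        ⟨x, hx⟩
      have hg1 : Nat.gcd 2 (Fintype.card F - 1) = 1 := by
        apply Nat.Coprime.gcd_eq_one
        rw [Nat.coprime_two_left, hF, Nat.odd_iff]
        omega
      rw [H64.psl2_spectrum 2, hg1, Nat.div_one, Nat.div_one, hF] at hmem
      rcases hmem with h'' | h'' | h''
      · exact hr2 ((Nat.prime_dvd_prime_iff_eq hr Nat.prime_two).1 ((dvd_mul_left r 2).trans h''))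
      · have := (dvd_mul_right 2 r).trans h''; omega
      · have := (dvd_mul_right 2 r).trans h''; omega
  have hns : ¬ Group.IsSolvable G := by
    set r := (2 ^ m - 1).minFac
    set s := (2 ^ m + 1).minFac
    have hr : r.Prime := Nat.minFac_prime h2m
    have hs : s.Prime := Nat.minFac_prime h2mp
    have hrd : r ∣ 2 ^ m - 1 := Nat.minFac_dvd _
    have hsd : s ∣ 2 ^ m + 1 := Nat.minFac_dvd _
    have hr2 := no2 r hr (Or.inl hrd)
    have hs2 := no2 s hs (Or.inr hsd)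
    have hrs : r ≠ s := by
      intro e
      have h3 := Nat.dvd_sub (e ▸ hsd : r ∣ 2 ^ m + 1) hrd
      rw [show 2 ^ m + 1 - (2 ^ m - 1) = 2 by omega] at h3
      exact hr2 ((Nat.prime_dvd_prime_iff_eq hr Nat.prime_two).1 h3)
    refine not_solvable_of_three hr hs hr2 hs2 hrs ((h.1 2 Nat.prime_two).1 ?_)
      ((h.1 r hr).1 ?_) ((h.1 s hs).1 ?_) hG ?_
    · rw [hL]; exact dvd_mul_of_dvd_left hev _
    · rw [hL]; exact dvd_mul_of_dvd_right (dvd_mul_of_dvd_left hrd _) _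
    · rw [hL]; exact dvd_mul_of_dvd_right (dvd_mul_of_dvd_right hsd _) _
    · exact fun hg => psl2_two_no_mixed hF hr hs hr2 hrd (Or.inl hsd) ((h.2 r s hr hs hrs).2 hg)
  obtain ⟨N, hNn, hC, hlist⟩ := socle_cases hclass hG hns
  haveI := hNn
  have hQ := isCIT_quotient hG (Cfsg.pCore 2 G)
  obtain ⟨R, hR, hRd, hRo⟩ := H76.exists_primitive_two (n := 2 * m) (by omega) (by omega)
  haveI := Fact.mk hR
  have hR9 := le_of_primitive (by omega) hRo
  have hR2 : R ≠ 2 := by omega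
  have hRQ : R ∣ Nat.card (G ⧸ Cfsg.pCore 2 G) :=
    (dvd_card_quotient hR hR2).2 ((hodd R hR hR2).2 hRd)
  rcases hlist with ⟨E, iE, jE, hE, ⟨e⟩⟩ | ⟨E, iE, jE, hE, ⟨e⟩⟩ |
      ⟨E, iE, jE, m', hm', hE, ⟨e⟩⟩
  · have hNc := Nat.card_congr e.toEquiv
    rcases hE with h9 | ⟨n, hn⟩ | ⟨hp, k, hk⟩
    · exfalso
      have hc := H39.card_PSL2_mul (F := E)
      rw [h9] at hc
      norm_num at hc
      rw [show Nat.card (Matrix.ProjectiveSpecialLinearGroup (Fin 2) E) = 360 by omega] at hNc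
      have := primitive_dvd_socle hQ N hR hR2 hRQ hRo hNc (by norm_num) (b := 3) (by norm_num)
        (by omega)
      have : R ∣ 2 ^ 3 * 3 ^ 2 * 5 := this
      rcases hR.dvd_mul.1 this with h' | h'
      · rcases hR.dvd_mul.1 h' with h' | h'
        · have := Nat.le_of_dvd two_pos (hR.dvd_of_dvd_pow h'); omega
        · have := Nat.le_of_dvd (by norm_num) (hR.dvd_of_dvd_pow h'); omega
      · have := Nat.le_of_dvd (by norm_num) h'; omega
    · -- the group itself
      have hn0 : n ≠ 0 := by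
        rintro rfl
        exact (Fintype.one_lt_card (α := E)).ne' (by rw [hn, pow_zero])
      haveI := charTwo_of_card hn
      obtain ⟨u, hu, hfix⟩ := psl2_aut_fix (F := E)
      have htop : N = ⊤ := eq_top_of_aut hQ N hC e hu fun α => by
        obtain ⟨s, h1, w, hw⟩ := hfix α
        exact ⟨s, h1, Or.inl ⟨w, hw⟩⟩
      have hQN : Nat.card (G ⧸ Cfsg.pCore 2 G) = Nat.card N := by rw [htop, Subgroup.card_top]
      have hprimes : ∀ r : ℕ, r.Prime → r ≠ 2 →
          (r ∣ 2 ^ (2 * m) - 1 ↔ r ∣ 2 ^ (2 * n) - 1) := by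
        intro r hr hr2
        rw [← hodd r hr hr2, ← dvd_card_quotient hr hr2, hQN, hNc, card_psl2_two hn0 hn, sq_sub_one,
          mul_comm (2 ^ n + 1)]
        refine ⟨fun hd => (hr.dvd_mul.1 hd).resolve_left fun h' => hr2 ?_,
          fun hd => dvd_mul_of_dvd_right hd _⟩
        exact (Nat.prime_dvd_prime_iff_eq hr Nat.prime_two).1 (hr.dvd_of_dvd_pow h')
      have h1 : 2 * m ∣ 2 * n := by
        have := (hprimes R hR hR2).1 hRd
        rwa [pow_sub_dvd_iff, hRo] at this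
      have hmn : m ≤ n := by have := Nat.le_of_dvd (by omega) h1; omega
      obtain ⟨R', hR', hRd', hRo'⟩ := H76.exists_primitive_two (n := 2 * n) (by omega) (by omega)
      haveI := Fact.mk hR'
      have hR9' := le_of_primitive (by omega) hRo'
      have h2 := (hprimes R' hR' (by omega)).2 hRd'
      rw [pow_sub_dvd_iff, hRo'] at h2
      have hnm : n = m := by have := Nat.le_of_dvd (by omega) h2; omega
      exact ⟨(Subgroup.topEquiv.symm.trans (MulEquiv.subgroupCongr htop.symm)).trans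
        (e.trans (H37.pslCongr (FiniteField.ringEquivOfCardEq (K := E) (K' := F)
          (by rw [hn, hF, hnm]))))⟩
    · exfalso
      have hsq : ∀ r : ℕ, r.Prime → r ≠ 2 → r ∣ 2 ^ (2 * m) - 1 →
          r ∣ Fintype.card E * (Fintype.card E ^ 2 - 1) := by
        intro r hr hr2 hrd
        have h1 := dvd_card_of_sq N hC e (psl2_aut_sq (Nat.card_eq_fintype_card (α := E) ▸ hp)) hr hr2
          ((dvd_card_quotient hr hr2).2 ((hodd r hr hr2).2 hrd))
        rw [hNc] at h1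
        rw [← H39.card_PSL2_mul]
        exact dvd_mul_of_dvd_right h1 _
      refine prime_field_false hm hp hk hsq fun hp2 => ?_
      haveI := Fact.mk hp
      have hpN : Fintype.card E ∣ Nat.card (Matrix.ProjectiveSpecialLinearGroup (Fin 2) E) := by
        have h1 : Fintype.card E ∣ Nat.gcd 2 (Fintype.card E - 1) *
            Nat.card (Matrix.ProjectiveSpecialLinearGroup (Fin 2) E) :=
          H39.card_PSL2_mul (F := E) ▸ dvd_mul_right _ _
        refine (hp.dvd_mul.1 h1).resolve_left fun h' => hp2 ?_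
        exact (Nat.prime_dvd_prime_iff_eq hp Nat.prime_two).1 (h'.trans (Nat.gcd_dvd_left _ _))
      exact (hodd _ hp hp2).1 ((dvd_card_quotient hp hp2).1
        ((hNc ▸ hpN).trans (Subgroup.card_subgroup_dvd_card N)))
  · exfalso
    have hNc : Nat.card N = 20160 := (Nat.card_congr e.toEquiv).trans (H39.L34.card_psl34 hE)
    have := primitive_dvd_socle hQ N hR hR2 hRQ hRo hNc (by norm_num) (b := 6) (by norm_num)
      (by omega)
    have : R ∣ 2 ^ 6 * 3 ^ 2 * 5 * 7 := this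
    rcases hR.dvd_mul.1 this with h' | h'
    · rcases hR.dvd_mul.1 h' with h' | h'
      · rcases hR.dvd_mul.1 h' with h' | h'
        · have := Nat.le_of_dvd two_pos (hR.dvd_of_dvd_pow h'); omega
        · have := Nat.le_of_dvd (by norm_num) (hR.dvd_of_dvd_pow h'); omega
      · have := Nat.le_of_dvd (by norm_num) h'; omega
    · have := Nat.le_of_dvd (by norm_num) h'; omega
  · exfalso
    let e' := e.trans (H57.lieSzEquiv hm' hE).symm
    obtain ⟨u, hu, hfix⟩ := sz_aut_fix hm' hE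
    have htop : N = ⊤ := eq_top_of_aut hQ N hC e' hu fun α => by
      obtain ⟨s, h1, w, hw⟩ := hfix α
      exact ⟨s, h1, Or.inl ⟨w, hw⟩⟩
    have h3 : 3 ∣ Nat.card N := by
      rw [htop, Subgroup.card_top, dvd_card_quotient Nat.prime_three (by norm_num),
        hodd 3 Nat.prime_three (by norm_num), pow_mul]
      norm_num
      simpa using Nat.sub_dvd_pow_sub_pow 4 1 m
    rw [Nat.card_congr e'.toEquiv] at h3
    exact H57.three_not_dvd_sz hm' hE h3

theorem sz_graph (hclass : CITClass.{u}) {G : Type u} [Group G] [Finite G]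
    {F : Type v} [Field F] [Fintype F] (m : ℕ) (hm : 1 ≤ m) (hF : Fintype.card F = 2 ^ (2 * m + 1))
    (h : SameGraph ↥(Cfsg.Lie.Sz F (2 ^ (m + 1))) G) [(Cfsg.pCore 2 G).Normal] :
    Nonempty (G ⧸ Cfsg.pCore 2 G ≃* ↥(Cfsg.Lie.Sz F (2 ^ (m + 1)))) := by
  haveI : Fact (Nat.Prime 2) := ⟨Nat.prime_two⟩
  let eL := H57.lieSzEquiv hm hF
  have hcard : Nat.card ↥(Cfsg.Lie.Sz F (2 ^ (m + 1))) = Nat.card (Cfsg.Sz F m) :=
    (Nat.card_congr eL.toEquiv).symm
  have hord : ∀ k, (∃ y : G, orderOf y = k) → ∀ r s : ℕ, r.Prime → s.Prime → r ≠ s → k = r * s →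
      ∃ x : Cfsg.Sz F m, orderOf x = r * s := by
    rintro k hy r s hr hs hrs rfl
    obtain ⟨x, hx⟩ := (h.2 r s hr hs hrs).2 hy
    exact ⟨eL.symm x, by rw [MulEquiv.orderOf_eq, hx]⟩
  have hG : IsCIT G := isCIT_of_graph fun r hr hr2 hg =>
    sz_no_two_mixed hm hF hr hr2 (hord _ hg 2 r Nat.prime_two hr (Ne.symm hr2) rfl)
  set q := 2 ^ (2 * m + 1) with hq
  have h8 : 8 ≤ q := by
    calc 8 = 2 ^ 3 := rfl
      _ ≤ q := Nat.pow_le_pow_right two_pos (by omega)
  have hqe : 2 ∣ q := H57.q_even m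
  have hqe2 : 2 ∣ q ^ 2 := dvd_pow hqe two_ne_zero
  have hcG : ∀ r : ℕ, r.Prime → (r ∣ q ^ 2 * (q ^ 2 + 1) * (q - 1) ↔ r ∣ Nat.card G) := fun r hr => by
    rw [← h.1 r hr, hcard, H57.card_sz hm hF]
  have hns : ¬ Group.IsSolvable G := by
    set r := (q - 1).minFac
    set s := (q ^ 2 + 1).minFac
    have hr : r.Prime := Nat.minFac_prime (by omega)
    have hs : s.Prime := Nat.minFac_prime (by have : 0 < q ^ 2 := (pow_pos (by omega) 2); omega)
    have hrd : r ∣ q - 1 := Nat.minFac_dvd _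
    have hsd : s ∣ q ^ 2 + 1 := Nat.minFac_dvd _
    have hr2 : r ≠ 2 := by intro e; rw [e] at hrd; omega
    have hs2 : s ≠ 2 := by intro e; rw [e] at hsd; omega
    have hrs : r ≠ s := fun e => H57.not_dvd_both hr hrd (e ▸ hsd)
    refine not_solvable_of_three hr hs hr2 hs2 hrs ((hcG 2 Nat.prime_two).1 ?_)
      ((hcG r hr).1 ?_) ((hcG s hs).1 ?_) hG ?_
    · exact dvd_mul_of_dvd_left (dvd_mul_of_dvd_left hqe2 _) _
    · exact dvd_mul_of_dvd_right hrd _
    · exact dvd_mul_of_dvd_left (dvd_mul_of_dvd_right hsd _) _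
    · exact fun hg => sz_no_odd_mixed hm hF hr hs hrd hsd (hord _ hg r s hr hs hrs rfl)
  obtain ⟨N, hNn, hC, hlist⟩ := socle_cases hclass hG hns
  haveI := hNn
  have hQ := isCIT_quotient hG (Cfsg.pCore 2 G)
  have no3 : ¬ 3 ∣ Nat.card N := fun h3 => by
    have h4 := (dvd_card_quotient (G := G) Nat.prime_three (by norm_num)).1
      (h3.trans (Subgroup.card_subgroup_dvd_card N))
    rw [← h.1 3 Nat.prime_three, hcard] at h4
    exact H57.three_not_dvd_sz hm hF h4
  rcases hlist with ⟨E, iE, jE, hE, ⟨e⟩⟩ | ⟨E, iE, jE, hE, ⟨e⟩⟩ |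
      ⟨E, iE, jE, m', hm', hE, ⟨e⟩⟩
  · exact absurd (Nat.card_congr e.toEquiv ▸ three_dvd_psl2) no3
  · exfalso
    apply no3
    rw [Nat.card_congr e.toEquiv, H39.L34.card_psl34 hE]
    norm_num
  · let e' := e.trans (H57.lieSzEquiv hm' hE).symm
    obtain ⟨u, hu, hfix⟩ := sz_aut_fix hm' hE
    have htop : N = ⊤ := eq_top_of_aut hQ N hC e' hu fun α => by
      obtain ⟨s, h1, w, hw⟩ := hfix α
      exact ⟨s, h1, Or.inl ⟨w, hw⟩⟩
    have hprimes : ∀ r : ℕ, r.Prime → r ≠ 2 →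
        (r ∣ Nat.card (Cfsg.Sz F m) ↔ r ∣ Nat.card (Cfsg.Sz E m')) := fun r hr hr2 => by
      rw [← hcard, h.1 r hr, ← dvd_card_quotient hr hr2, ← Nat.card_congr e'.toEquiv, htop,
        Subgroup.card_top]
    have big : ∀ a b : ℕ, 1 ≤ a →
        (∀ r : ℕ, r.Prime → r ≠ 2 →
          r ∣ (2 ^ (2 * a + 1)) ^ 2 * ((2 ^ (2 * a + 1)) ^ 2 + 1) * (2 ^ (2 * a + 1) - 1) →
          r ∣ (2 ^ (2 * b + 1)) ^ 2 * ((2 ^ (2 * b + 1)) ^ 2 + 1) * (2 ^ (2 * b + 1) - 1)) →
        a ≤ b := by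
      intro a b ha hab
      obtain ⟨R, hR, hRd, hRo⟩ :=
        H76.exists_primitive_two (n := 4 * (2 * a + 1)) (by omega) (by omega)
      haveI := Fact.mk hR
      have hR9 := le_of_primitive (by omega) hRo
      have hR2 : ¬ R ∣ 2 := fun h => by have := Nat.le_of_dvd two_pos h; omega
      have hfac : ∀ c : ℕ, 2 ^ (4 * (2 * c + 1)) - 1 =
          ((2 ^ (2 * c + 1)) ^ 2 + 1) * ((2 ^ (2 * c + 1)) ^ 2 - 1) := fun c => by
        rw [← pow_mul, ← sq_sub_one]
        congr 2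
        omega
      have hnot : ¬ R ∣ (2 ^ (2 * a + 1)) ^ 2 - 1 := by
        rw [← pow_mul, pow_sub_dvd_iff, hRo]
        intro h'
        have := Nat.le_of_dvd (by omega) h'
        omega
      have hRa : R ∣ (2 ^ (2 * a + 1)) ^ 2 + 1 :=
        (hR.dvd_mul.1 (hfac a ▸ hRd)).resolve_right hnot
      have h1 := hab R hR (fun h => hR2 (h ▸ dvd_rfl))
        (dvd_mul_of_dvd_left (dvd_mul_of_dvd_right hRa _) _)
      have h2 : R ∣ 2 ^ (4 * (2 * b + 1)) - 1 := by
        rw [hfac b]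
        rcases hR.dvd_mul.1 h1 with h' | h'
        · rcases hR.dvd_mul.1 h' with h' | h'
          · exact absurd (hR.dvd_of_dvd_pow (hR.dvd_of_dvd_pow h')) hR2
          · exact dvd_mul_of_dvd_left h' _
        · refine dvd_mul_of_dvd_right (h'.trans ?_) _
          simpa using Nat.sub_dvd_pow_sub_pow (2 ^ (2 * b + 1)) 1 2
      rw [pow_sub_dvd_iff, hRo] at h2
      have := Nat.le_of_dvd (by omega) h2
      omega
    have hmm : m = m' := by
      apply Nat.le_antisymm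
      · exact big m m' hm fun r hr hr2 hd => by
          rw [← H57.card_sz hm' hE, ← hprimes r hr hr2, H57.card_sz hm hF]; exact hd
      · exact big m' m hm' fun r hr hr2 hd => by
          rw [← H57.card_sz hm hF, hprimes r hr hr2, H57.card_sz hm' hE]; exact hd
    subst hmm
    obtain ⟨f⟩ := sz_equiv_of_card hm hE hF
    exact ⟨(Subgroup.topEquiv.symm.trans (MulEquiv.subgroupCongr htop.symm)).trans
      ((e'.trans f).trans eL)⟩

end H28.CITGraph
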