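import Cfsg.Agent.H11.CIT.Basic
import Cfsg.Agent.H16.OddOrder
import Cfsg.Agent.H64.ThreePrimes
import Cfsg.Agent.H35.Subnormal
import Cfsg.Agent.H1.Cores

/-!
Groups in which `2` is an isolated vertex of the prime graph: reduction to an almost simple quotient.
-/

set_option autoImplicit false
set_option linter.unusedSectionVars false
set_option linter.style.haveILetI false
set_option linter.deprecated false

namespace H28.CITGraph

open Subgroup H11.CIT

universe u

variable {G : Type u} [Group G] [Finite G]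

theorem exists_odd_prime_dvd_of_not_two_pow {n : ℕ} (hn : n ≠ 0) (h : ¬ ∃ k, n = 2 ^ k) :
    ∃ r, r.Prime ∧ r ≠ 2 ∧ r ∣ n := by
  by_contra hc
  push_neg at hc
  exact h ⟨_, Nat.eq_prime_pow_of_unique_prime_dvd hn fun {d} hd hdn => by
    by_contra hd2; exact hc d hd hd2 hdn⟩

theorem isCIT_of_graph (h : ∀ r : ℕ, r.Prime → r ≠ 2 → ¬ ∃ g : G, orderOf g = 2 * r) : IsCIT G := by
  intro t ht
  haveI : Fact (Nat.Prime 2) := ⟨Nat.prime_two⟩
  rw [IsPGroup.iff_orderOf]
  rintro ⟨x, hx⟩
  rw [orderOf_mk]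
  by_contra hc
  obtain ⟨r, hr, hr2, hrd⟩ := exists_odd_prime_dvd_of_not_two_pow (orderOf_pos x).ne' hc
  set y := x ^ (orderOf x / r) with hy
  have hyo : orderOf y = r := orderOf_pow_orderOf_div (orderOf_pos x).ne' hrd
  have hc : Commute t y := ((show Commute x t from mem_cent.1 hx).pow_left _).symm
  refine h r hr hr2 ⟨t * y, ?_⟩
  rw [hc.orderOf_mul_eq_mul_orderOf_of_coprime, ht, hyo]
  rw [ht, hyo]
  exact (Nat.coprime_primes Nat.prime_two hr).2 (Ne.symm hr2)

theorem false_of_commute (hG : IsCIT G) {t w : G} (ht : orderOf t = 2) (hw : Odd (orderOf w))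
    (hw1 : w ≠ 1) (hc : Commute t w) : False := by
  have := hG.fpf hw hw1 (k := 1) (by simpa using ht) hc.symm.eq
  rw [this, orderOf_one] at ht
  norm_num at ht

theorem not_two_mul (hG : IsCIT G) {g : G} {r : ℕ} (hr : r.Prime) (hr2 : r ≠ 2) :
    orderOf g ≠ 2 * r := fun h => by
  have h1 : orderOf (g ^ r) = 2 := by
    rw [orderOf_pow' _ hr.ne_zero, h, Nat.gcd_eq_right (dvd_mul_left r 2),
      Nat.mul_div_cancel _ hr.pos]
  have h2 : orderOf (g ^ 2) = r := by
    rw [orderOf_pow' _ two_ne_zero, h, Nat.gcd_eq_right (dvd_mul_right 2 r),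
      Nat.mul_div_cancel_left _ two_pos]
  refine false_of_commute hG h1 (h2 ▸ hr.odd_of_ne_two hr2) (fun e => ?_)
    (Commute.pow_pow (Commute.refl g) r 2)
  rw [e, orderOf_one] at h2
  exact hr.ne_one h2.symm

theorem exists_lift_orderOf {N : Subgroup G} [N.Normal] (g : G ⧸ N) :
    ∃ z : G, orderOf z = orderOf g := by
  obtain ⟨x, rfl⟩ := QuotientGroup.mk_surjective g
  obtain ⟨z, -, hz⟩ := H64.exists_orderOf_map (QuotientGroup.mk' N) x rfl
  exact ⟨z, hz⟩

theorem isCIT_quotient (hG : IsCIT G) (N : Subgroup G) [N.Normal] : IsCIT (G ⧸ N) :=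
  isCIT_of_graph fun r hr hr2 ⟨g, hg⟩ => by
    obtain ⟨z, hz⟩ := exists_lift_orderOf g
    exact not_two_mul hG hr hr2 (hz.trans hg)

theorem not_solvable_of_three {r s : ℕ} (hr : r.Prime) (hs : s.Prime) (hr2 : r ≠ 2) (hs2 : s ≠ 2)
    (hrs : r ≠ s) (h2G : 2 ∣ Nat.card G) (hrG : r ∣ Nat.card G) (hsG : s ∣ Nat.card G)
    (hG : IsCIT G) (hno : ¬ ∃ g : G, orderOf g = r * s) : ¬ Group.IsSolvable G := by
  intro hsol
  rcases H64.three_primes_adjacent hsol Nat.prime_two hr hs (Ne.symm hr2) (Ne.symm hs2) hrs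
      h2G hrG hsG with ⟨z, hz⟩ | ⟨z, hz⟩ | ⟨z, hz⟩
  · exact not_two_mul hG hr hr2 hz
  · exact not_two_mul hG hs hs2 hz
  · exact hno ⟨z, hz⟩

/-- A non-trivial subgroup of odd order contains a non-trivial element of odd order. -/
theorem exists_odd_mem {M : Subgroup G} (hM : ¬ IsPGroup 2 M) :
    ∃ w ∈ M, Odd (orderOf w) ∧ w ≠ 1 := by
  haveI : Fact (Nat.Prime 2) := ⟨Nat.prime_two⟩
  have : ¬ ∃ k, Nat.card M = 2 ^ k := fun h => hM (IsPGroup.iff_card.2 h)
  obtain ⟨r, hr, hr2, hrd⟩ := exists_odd_prime_dvd_of_not_two_pow Nat.card_pos.ne' this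
  haveI := Fact.mk hr
  obtain ⟨⟨w, hwM⟩, hw⟩ := exists_prime_orderOf_dvd_card' (G := M) r hrd
  rw [orderOf_mk] at hw
  refine ⟨w, hwM, hw ▸ hr.odd_of_ne_two hr2, fun e => ?_⟩
  rw [e, orderOf_one] at hw
  exact hr.ne_one hw.symm

theorem exists_invol_mem {M : Subgroup G} (hM : Even (Nat.card M)) : ∃ t ∈ M, orderOf t = 2 := by
  haveI : Fact (Nat.Prime 2) := ⟨Nat.prime_two⟩
  obtain ⟨⟨t, htM⟩, ht⟩ := exists_prime_orderOf_dvd_card' (G := M) 2 hM.two_dvd
  exact ⟨t, htM, by rwa [orderOf_mk] at ht⟩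

/-- No non-trivial abelian normal subgroup of odd order. -/
theorem no_odd_abelian_normal (hG : IsCIT G) (hns : ¬ Group.IsSolvable G)
    (V : Subgroup G) [V.Normal] (hV : V ≠ ⊥) (hab : ∀ a ∈ V, ∀ b ∈ V, a * b = b * a)
    (hodd : Odd (Nat.card V)) : False := by
  haveI : Fact (Nat.Prime 2) := ⟨Nat.prime_two⟩
  obtain ⟨w, hw, hw1⟩ := V.bot_or_exists_ne_one.resolve_left hV
  have hwo : Odd (orderOf w) := hodd.of_dvd_nat (Subgroup.orderOf_dvd_natCard _ hw)
  set C := Subgroup.centralizer (V : Set G) with hCdef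
  have hCodd : Odd (Nat.card C) := by
    rw [← Nat.not_even_iff_odd]
    intro he
    obtain ⟨t, htC, ht⟩ := exists_invol_mem he
    exact false_of_commute hG ht hwo hw1 (mem_centralizer_iff.1 htC w hw).symm
  have inv : ∀ t : G, orderOf t = 2 → ∀ x ∈ V, t * x * t⁻¹ = x⁻¹ := by
    intro t ht x hx
    have hxt : t * x * t⁻¹ ∈ V := ‹V.Normal›.conj_mem x hx t
    have ht2 : t * t = 1 := sq_eq_one ht
    have hti : t⁻¹ = t := inv_eq_of_mul_eq_one_right ht2
    have hc : Commute t (x * (t * x * t⁻¹)) := by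
      show t * (x * (t * x * t⁻¹)) = x * (t * x * t⁻¹) * t
      rw [hab x hx _ hxt]
      calc t * (t * x * t⁻¹ * x) = (t * t) * x * t⁻¹ * x := by group
        _ = x * t * x := by rw [ht2, one_mul, hti]
        _ = x * (t * x * t⁻¹) * t := by group
        _ = t * x * t⁻¹ * x * t := by rw [hab x hx _ hxt]
    by_contra hne
    refine false_of_commute hG ht (hodd.of_dvd_nat
      (Subgroup.orderOf_dvd_natCard _ (mul_mem hx hxt))) (fun e => hne ?_) hc
    exact eq_inv_of_mul_eq_one_right e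
  have hCn : C.Normal := by rw [hCdef]; infer_instance
  have hev : Even (Nat.card G) := by
    rw [← Nat.not_odd_iff_even]
    exact fun ho => hns (H16.FT.oddOrder ho)
  obtain ⟨⟨t, ht⟩⟩ : Nonempty {t : G // orderOf t = 2} := by
    obtain ⟨t, ht⟩ := exists_prime_orderOf_dvd_card' (G := G) 2 hev.two_dvd
    exact ⟨⟨t, ht⟩⟩
  have hti : t⁻¹ = t := inv_eq_of_mul_eq_one_right (sq_eq_one ht)
  have hsurj : Function.Surjective
      ((QuotientGroup.mk' C).comp (centralizer ({t} : Set G)).subtype) := by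
    intro q
    obtain ⟨g, rfl⟩ := QuotientGroup.mk_surjective q
    have hs : orderOf (g * t * g⁻¹) = 2 := by
      rw [← MulAut.conj_apply, MulEquiv.orderOf_eq, ht]
    set v := g * t * g⁻¹ * t with hv
    have hvC : v ∈ C := by
      rw [hCdef, mem_centralizer_iff]
      intro x hx
      have h1 := inv t ht x hx
      have h2 := inv _ hs x⁻¹ (inv_mem hx)
      rw [inv_inv] at h2
      calc x * v = (g * t * g⁻¹ * x⁻¹ * (g * t * g⁻¹)⁻¹) * v := by rw [h2]
        _ = g * t * g⁻¹ * (t * x * t⁻¹) * (g * t * g⁻¹)⁻¹ * v := by rw [h1]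
        _ = v * x := by rw [hv]; group
    have hvt : t * v * t⁻¹ = v⁻¹ := by
      rw [hv, mul_inv_rev]
      have : (g * t * g⁻¹)⁻¹ = g * t * g⁻¹ := by
        rw [mul_inv_rev, mul_inv_rev, inv_inv, hti, mul_assoc]
      rw [this]
      calc t * (g * t * g⁻¹ * t) * t⁻¹ = t * (g * t * g⁻¹) := by group
        _ = t⁻¹ * (g * t * g⁻¹) := by rw [hti]
    obtain ⟨k, hk⟩ : Odd (orderOf v) := hCodd.of_dvd_nat (Subgroup.orderOf_dvd_natCard _ hvC)
    set c := v ^ (k + 1) with hc
    have hc2 : c * c = v := by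
      rw [hc, ← pow_add, show k + 1 + (k + 1) = 2 * k + 1 + 1 by omega, pow_succ, ← hk,
        pow_orderOf_eq_one, one_mul]
    have hct : t * c⁻¹ * t⁻¹ = c := by
      rw [← MulAut.conj_apply, hc, map_inv, map_pow, MulAut.conj_apply, hvt, inv_pow, inv_inv]
    have hconj : c * t * c⁻¹ = g * t * g⁻¹ := by
      calc c * t * c⁻¹ = c * (t * c⁻¹ * t⁻¹) * t := by group
        _ = v * t := by rw [hct, hc2]
        _ = g * t * g⁻¹ * (t * t) := by rw [hv]; group
        _ = g * t * g⁻¹ := by rw [sq_eq_one ht, mul_one]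
    refine ⟨⟨c⁻¹ * g, mem_cent.2 ?_⟩, ?_⟩
    · calc c⁻¹ * g * t = c⁻¹ * (g * t * g⁻¹) * g := by group
        _ = t * (c⁻¹ * g) := by rw [← hconj]; group
    · show (QuotientGroup.mk' C) (c⁻¹ * g) = QuotientGroup.mk g
      rw [map_mul, map_inv]
      have : (QuotientGroup.mk' C) c = 1 := (QuotientGroup.eq_one_iff c).2 (pow_mem hvC _)
      rw [this, inv_one, one_mul]
      rfl
  apply hns
  haveI : Group.IsSolvable C := H16.FT.oddOrder hCodd
  haveI : Group.IsNilpotent (centralizer ({t} : Set G)) := (hG t ht).isNilpotent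
  haveI : Group.IsSolvable (G ⧸ C) := solvable_of_surjective hsurj
  exact solvable_of_ker_le_range C.subtype (QuotientGroup.mk' C) (by simp)

/-- Non-trivial normal subgroups are not solvable. -/
theorem normal_not_solvable (hG : IsCIT G) (hns : ¬ Group.IsSolvable G)
    (h2 : Cfsg.pCore 2 G = ⊥) (M : Subgroup G) [M.Normal] (hM : M ≠ ⊥) :
    ¬ Group.IsSolvable M := by
  intro hs
  obtain ⟨K, hKn, hK1, hKM, hKmin⟩ := H35.exists_minimal_normal_le M hM
  haveI := hKn
  haveI : Nontrivial K := (Subgroup.nontrivial_iff_ne_bot K).2 hK1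
  haveI : Group.IsSolvable K :=
    solvable_of_solvable_injective (Subgroup.inclusion_injective hKM)
  have hD : (commutator K).map K.subtype = ⊥ := by
    haveI : ((commutator K).map K.subtype).Normal :=
      H1.map_subtype_normal_of_characteristic K (commutator K)
    rcases hKmin ((commutator K).map K.subtype) inferInstance (map_subtype_le _) with h | h
    · exact h
    · exfalso
      have h1 : (commutator K) = ⊤ := by
        apply Subgroup.map_injective K.subtype_injective
        rw [h, ← MonoidHom.range_eq_map, Subgroup.range_subtype]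
      exact (Group.IsSolvable.commutator_lt_top_of_nontrivial K).ne h1
  have hab : ∀ a ∈ K, ∀ b ∈ K, a * b = b * a := by
    intro a ha b hb
    rw [Subgroup.map_eq_bot_iff_of_injective _ K.subtype_injective] at hD
    have h := Subgroup.commutator_mem_commutator (Subgroup.mem_top (⟨a, ha⟩ : K))
      (Subgroup.mem_top (⟨b, hb⟩ : K))
    rw [← _root_.commutator_def, hD, Subgroup.mem_bot, commutatorElement_eq_one_iff_mul_comm] at h
    exact congrArg Subtype.val h
  refine no_odd_abelian_normal hG hns K hK1 hab ?_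
  rw [← Nat.not_even_iff_odd]
  intro he
  obtain ⟨t, htK, ht⟩ := exists_invol_mem he
  let E : Subgroup G :=
    { carrier := {x | x ∈ K ∧ x * x = 1}
      one_mem' := ⟨one_mem K, one_mul 1⟩
      mul_mem' := fun {a b} ⟨ha, ha2⟩ ⟨hb, hb2⟩ => ⟨mul_mem ha hb, by
        rw [show a * b * (a * b) = a * (b * a) * b by group, hab b hb a ha,
          show a * (a * b) * b = (a * a) * (b * b) by group, ha2, hb2, one_mul]⟩
      inv_mem' := fun {a} ⟨ha, ha2⟩ => ⟨inv_mem ha, by rw [← mul_inv_rev, ha2, inv_one]⟩ }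
  haveI : E.Normal := ⟨fun x ⟨hx, hx2⟩ g => ⟨hKn.conj_mem x hx g, by
    rw [show g * x * g⁻¹ * (g * x * g⁻¹) = g * (x * x) * g⁻¹ by group, hx2]; group⟩⟩
  have hE : IsPGroup 2 E := fun x => ⟨1, Subtype.ext (by
    rw [pow_one, pow_two]; exact x.2.2)⟩
  have h := H1.le_pCore hE (show t ∈ E from ⟨htK, sq_eq_one ht⟩)
  rw [h2, Subgroup.mem_bot] at h
  rw [h, orderOf_one] at ht
  norm_num at ht

/-- The almost simple structure of an insoluble CIT group with trivial 2-core. -/
theorem exists_simple (hG : IsCIT G) (hns : ¬ Group.IsSolvable G) (h2 : Cfsg.pCore 2 G = ⊥) :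
    ∃ N : Subgroup G, N.Normal ∧ IsSimpleGroup N ∧ ¬ IsMulCommutative N ∧
      Subgroup.centralizer (N : Set G) = ⊥ := by
  haveI : Fact (Nat.Prime 2) := ⟨Nat.prime_two⟩
  haveI : Nontrivial G := by
    by_contra h
    haveI := not_nontrivial_iff_subsingleton.1 h
    exact hns inferInstance
  obtain ⟨N, hNn, hN1, -, hNmin⟩ := H35.exists_minimal_normal_le (⊤ : Subgroup G) top_ne_bot
  haveI := hNn
  have hNs := normal_not_solvable hG hns h2 N hN1
  have hN2 : ¬ IsPGroup 2 N := fun h => hNs (by haveI := h.isNilpotent; infer_instance)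
  haveI : Nontrivial N := (Subgroup.nontrivial_iff_ne_bot N).2 hN1
  refine ⟨N, hNn, ?_, fun hc => hNs (isSolvable_of_comm fun a b => hc.is_comm.comm a b), ?_⟩
  · refine ⟨fun M hM => ?_⟩
    by_contra hMne
    push_neg at hMne
    obtain ⟨K, hKn, hK1, hKM, hKmin⟩ := H35.exists_minimal_normal_le M hMne.1
    haveI := hKn
    set K' := K.map N.subtype with hK'
    have hK'N : K' ≤ N := map_subtype_le _
    have hKeven : Even (Nat.card K) := by
      rw [← Nat.not_odd_iff_even]
      intro ho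
      have hle : K ≤ Cfsg.pPrimeCore 2 N :=
        H1.le_pPrimeCore (Nat.coprime_two_right.2 ho)
      haveI := H1.pPrimeCore_characteristic 2 N
      haveI := H1.map_subtype_normal_of_characteristic N (Cfsg.pPrimeCore 2 N)
      rcases hNmin ((Cfsg.pPrimeCore 2 N).map N.subtype) inferInstance (map_subtype_le _) with h | h
      · rw [Subgroup.map_eq_bot_iff_of_injective _ N.subtype_injective] at h
        exact hK1 (eq_bot_iff.2 (h ▸ hle))
      · have h1 : Cfsg.pPrimeCore 2 N = ⊤ := by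
          apply Subgroup.map_injective N.subtype_injective
          rw [h, ← MonoidHom.range_eq_map, Subgroup.range_subtype]
        have h3 := H1.card_pPrimeCore_coprime 2 N
        rw [h1, Subgroup.card_top, Nat.coprime_two_right] at h3
        exact hNs (H16.FT.oddOrder h3)
    have hK2 : ¬ IsPGroup 2 K := by
      intro hp
      have hle : K ≤ Cfsg.pCore 2 N := H1.le_pCore hp
      haveI := H1.pCore_characteristic 2 N
      haveI := H1.map_subtype_normal_of_characteristic N (Cfsg.pCore 2 N)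
      have h3 := H1.le_pCore (G := G) ((H1.isPGroup_pCore 2 N).map N.subtype)
      rw [h2, le_bot_iff, Subgroup.map_eq_bot_iff_of_injective _ N.subtype_injective] at h3
      exact hK1 (eq_bot_iff.2 (h3 ▸ hle))
    -- a conjugate of `K'` different from it
    obtain ⟨g, hg⟩ : ∃ g : G, K.map (MulAut.conjNormal g : MulAut N).toMonoidHom ≠ K := by
      by_contra hall
      push_neg at hall
      have hn : K'.Normal := ⟨fun x hx g0 => by
        obtain ⟨k, hk, rfl⟩ := hx
        refine ⟨(MulAut.conjNormal g0 : MulAut N) k, ?_, MulAut.conjNormal_apply g0 k⟩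
        have h := Subgroup.mem_map_of_mem (MulAut.conjNormal g0 : MulAut N).toMonoidHom hk
        rw [hall g0] at h
        exact h⟩
      rcases hNmin K' hn hK'N with h | h
      · exact hK1 ((Subgroup.map_eq_bot_iff_of_injective _ N.subtype_injective).1 h)
      · apply hMne.2
        rw [eq_top_iff]
        refine le_trans ?_ hKM
        intro x _
        have hx : (x : G) ∈ K' := h.symm.le x.2
        obtain ⟨k, hk, e⟩ := hx
        rwa [← N.subtype_injective e]
    set L := K.map (MulAut.conjNormal g : MulAut N).toMonoidHom with hL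
    haveI : L.Normal := hKn.map _ (MulAut.conjNormal g : MulAut N).surjective
    have hint : K ⊓ L = ⊥ := by
      rcases hKmin (K ⊓ L) inferInstance inf_le_left with h | h
      · exact h
      · exfalso
        refine hg (Subgroup.eq_of_le_of_card_ge (inf_eq_left.1 h) ?_).symm
        rw [hL, Subgroup.card_map_of_injective (MulEquiv.injective _)]
    obtain ⟨t, htK, ht⟩ := exists_invol_mem hKeven
    obtain ⟨w, hwK, hwo, hw1⟩ := exists_odd_mem hK2
    set w' := (MulAut.conjNormal g : MulAut N) w with hw'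
    have hc : Commute t w' := Subgroup.commute_of_normal_of_disjoint K L hKn inferInstance
      (disjoint_iff.2 hint) t w' htK ⟨w, hwK, rfl⟩
    refine false_of_commute hG (t := (t : G)) (w := (w' : G)) ?_ ?_ ?_ ?_
    · rwa [orderOf_coe]
    · rw [orderOf_coe, hw', MulEquiv.orderOf_eq]
      exact hwo
    · rw [ne_eq, OneMemClass.coe_eq_one, hw', MulEquiv.map_eq_one_iff]
      exact hw1
    · exact congrArg Subtype.val hc
  · by_contra hC
    have hCs := normal_not_solvable hG hns h2 (Subgroup.centralizer (N : Set G)) hC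
    have hev : Even (Nat.card (Subgroup.centralizer (N : Set G))) := by
      rw [← Nat.not_odd_iff_even]
      exact fun ho => hCs (H16.FT.oddOrder ho)
    obtain ⟨t, htC, ht⟩ := exists_invol_mem hev
    obtain ⟨w, hwN, hwo, hw1⟩ := exists_odd_mem hN2
    exact false_of_commute hG ht hwo hw1 (mem_centralizer_iff.1 htC w hwN).symm

/-- The group equals its socle when every automorphism is, up to an inner one, fixed on suitable
elements. -/
theorem eq_top_of_aut (hG : IsCIT G) (N : Subgroup G) [N.Normal]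
    (hC : Subgroup.centralizer (N : Set G) = ⊥) {L : Type*} [Group L] (e : N ≃* L)
    {u : L} (hu : orderOf u = 2)
    (H : ∀ α : MulAut L, ∃ s : L, ((MulAut.conj s)⁻¹ * α) u = u ∧
      ((∃ w : L, Odd (orderOf w) ∧ w ≠ 1 ∧ ((MulAut.conj s)⁻¹ * α) w = w) ∨
        ∃ n : ℕ, Odd n ∧ ((MulAut.conj s)⁻¹ * α) ^ n = 1)) : N = ⊤ := by
  haveI : Fact (Nat.Prime 2) := ⟨Nat.prime_two⟩
  let φ : G →* MulAut L := (MulAut.congr e).toMonoidHom.comp MulAut.conjNormal
  have hφ : ∀ g : G, φ g = 1 → g = 1 := by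
    intro g hg
    have h1 : (MulAut.conjNormal g : MulAut N) = 1 := (MulAut.congr e).map_eq_one_iff.1 hg
    have : g ∈ Subgroup.centralizer (N : Set G) := by
      rw [mem_centralizer_iff]
      intro x hx
      have h2 := congrArg Subtype.val (DFunLike.congr_fun h1 ⟨x, hx⟩)
      rw [MulAut.conjNormal_apply] at h2
      simp only [MulAut.one_apply] at h2
      exact (mul_inv_eq_iff_eq_mul.1 h2).symm
    rwa [hC, mem_bot] at this
  rw [eq_top_iff]
  intro g _
  obtain ⟨s, hsu, hrest⟩ := H (φ g)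
  set n₀ : G := ((e.symm s : N) : G) with hn₀
  have hφn : φ n₀ = MulAut.conj s := by
    apply MulEquiv.ext
    intro x
    show e ((MulAut.conjNormal n₀ : MulAut N) (e.symm x)) = _
    have : (MulAut.conjNormal n₀ : MulAut N) (e.symm x) = e.symm (MulAut.conj s x) := by
      apply Subtype.ext
      rw [MulAut.conjNormal_apply, MulAut.conj_apply, map_mul, map_mul, map_inv]
      rfl
    rw [this, e.apply_symm_apply]
  set g' := n₀⁻¹ * g with hg'
  have hφg : φ g' = (MulAut.conj s)⁻¹ * φ g := by rw [hg', map_mul, map_inv, hφn]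
  have hfix : ∀ x : L, φ g' x = x → Commute g' ((e.symm x : N) : G) := by
    intro x hx
    have h1 : e ((MulAut.conjNormal g' : MulAut N) (e.symm x)) = x := hx
    have h2 : (MulAut.conjNormal g' : MulAut N) (e.symm x) = e.symm x := by
      rw [MulEquiv.eq_symm_apply]; exact h1
    have h3 := congrArg Subtype.val h2
    rw [MulAut.conjNormal_apply] at h3
    exact mul_inv_eq_iff_eq_mul.1 h3
  rw [← hφg] at hsu hrest
  have hcu := hfix u hsu
  have hu' : orderOf ((e.symm u : N) : G) = 2 := by rw [orderOf_coe, MulEquiv.orderOf_eq, hu]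
  obtain ⟨k, hk⟩ := IsPGroup.iff_orderOf.1 (hG _ hu') ⟨g', mem_cent.2 hcu.eq⟩
  rw [orderOf_mk] at hk
  have hg1 : g' = 1 := by
    rcases hrest with ⟨w, hwo, hw1, hw⟩ | ⟨n, hn, hpow⟩
    · refine hG.fpf (w := ((e.symm w : N) : G)) ?_ ?_ hk (hfix w hw).symm.eq
      · rwa [orderOf_coe, MulEquiv.orderOf_eq]
      · rw [ne_eq, OneMemClass.coe_eq_one, MulEquiv.map_eq_one_iff]; exact hw1
    · rw [← map_pow] at hpow
      have h1 := orderOf_dvd_of_pow_eq_one (hφ _ hpow)
      rw [hk] at h1
      rcases Nat.eq_zero_or_pos k with rfl | hk0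
      · exact orderOf_eq_one_iff.1 (by simpa using hk)
      · exact absurd ((dvd_pow_self 2 hk0.ne').trans h1) hn.not_two_dvd_nat
  rw [hg', inv_mul_eq_one] at hg1
  rw [← hg1]
  exact (e.symm s).2

/-- An element of prime order outside a normal subgroup of coprime order acts fixed-point-freely on a
Sylow 2-subgroup. -/
theorem prime_dvd_two_part (hG : IsCIT G) (N : Subgroup G) [N.Normal] {r : ℕ} (hr : r.Prime)
    (hr2 : r ≠ 2) (hrG : r ∣ Nat.card G) (hrN : ¬ r ∣ Nat.card N) :
    r ∣ 2 ^ (Nat.card N).factorization 2 - 1 := by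
  haveI : Fact (Nat.Prime 2) := ⟨Nat.prime_two⟩
  haveI := Fact.mk hr
  obtain ⟨P⟩ : Nonempty (Sylow 2 N) := inferInstance
  set P' : Subgroup G := (P : Subgroup N).map N.subtype with hP'
  have hP : IsPGroup 2 P' := P.isPGroup'.map _
  have hcard : Nat.card P' = 2 ^ (Nat.card N).factorization 2 := by
    rw [hP', Subgroup.card_map_of_injective N.subtype_injective]
    exact P.card_eq_multiplicity
  set M := Subgroup.normalizer (P' : Set G) with hM
  have hfr : M ⊔ N = ⊤ := Sylow.normalizer_sup_eq_top P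
  have hrM : r ∣ Nat.card M := by
    have h1 : Nat.card (⊤ : Subgroup G) ∣ Nat.card M * Nat.card N := by
      rw [← hfr]; exact H1.card_sup_dvd_mul M N
    rw [Subgroup.card_top] at h1
    have h := hrG.trans h1
    exact (hr.dvd_mul.1 h).resolve_right hrN
  obtain ⟨⟨x, hxM⟩, hx⟩ := exists_prime_orderOf_dvd_card' (G := M) r hrM
  rw [orderOf_mk] at hx
  let X := Subgroup.zpowers x
  have hX : IsPGroup r X := IsPGroup.of_card (n := 1) (by rw [Nat.card_zpowers, hx, pow_one])
  have hXM : ∀ a ∈ X, ∀ p ∈ P', a * p * a⁻¹ ∈ P' := fun a ha p hp =>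
    (mem_normalizer_iff.1 ((Subgroup.zpowers_le.2 hxM) ha) p).1 hp
  letI : MulAction X P' :=
    { smul := fun a p => ⟨(a : G) * p * (a : G)⁻¹, hXM a a.2 p p.2⟩
      one_smul := fun p => Subtype.ext (show (1 : G) * p * (1 : G)⁻¹ = p by group)
      mul_smul := fun a b p => Subtype.ext (show ((a : G) * b) * p * ((a : G) * b)⁻¹ =
        (a : G) * ((b : G) * p * (b : G)⁻¹) * (a : G)⁻¹ by group) }
  have hfix : MulAction.fixedPoints X P' = {1} := by
    ext p
    constructor
    · intro h
      have h1 : x * p * x⁻¹ = p := congrArg Subtype.val (h ⟨x, Subgroup.mem_zpowers x⟩)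
      apply Subtype.ext
      exact hG.fpf' hP (hx ▸ hr.odd_of_ne_two hr2) (fun e => by
        rw [e, orderOf_one] at hx; exact hr.ne_one hx.symm) p.2 (mul_inv_eq_iff_eq_mul.1 h1)
    · rintro rfl a
      exact Subtype.ext (show (a : G) * 1 * (a : G)⁻¹ = 1 by group)
  have h := hX.card_modEq_card_fixedPoints P'
  rw [hfix, hcard] at h
  rw [Nat.card_coe_set_eq, Set.ncard_singleton] at h
  exact (Nat.modEq_iff_dvd' Nat.one_le_two_pow).1 h.symm

end H28.CITGraph

namespace H28.CITGraph

open Subgroup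

universe u

/-- If all squares of automorphisms of the socle are inner, no new odd prime occurs. -/
theorem dvd_card_of_sq {G : Type u} [Group G] [Finite G] (N : Subgroup G) [N.Normal]
    (hC : Subgroup.centralizer (N : Set G) = ⊥) {L : Type*} [Group L] (e : N ≃* L)
    (H : ∀ α : MulAut L, ∃ s : L, α * α = MulAut.conj s)
    {r : ℕ} (hr : r.Prime) (hr2 : r ≠ 2) (hrG : r ∣ Nat.card G) : r ∣ Nat.card N := by
  by_contra hrN
  haveI := Fact.mk hr
  obtain ⟨g, hg⟩ := exists_prime_orderOf_dvd_card' (G := G) r hrG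
  obtain ⟨s, hs⟩ := H ((MulAut.congr e) (MulAut.conjNormal g))
  set n₀ : G := ((e.symm s : N) : G) with hn₀
  have h1 : (MulAut.conjNormal (g * g) : MulAut N) = MulAut.conjNormal n₀ := by
    apply (MulAut.congr e).injective
    rw [map_mul, map_mul, hs]
    apply MulEquiv.ext
    intro x
    show MulAut.conj s x = e ((MulAut.conjNormal n₀ : MulAut N) (e.symm x))
    have : (MulAut.conjNormal n₀ : MulAut N) (e.symm x) = e.symm (MulAut.conj s x) := by
      apply Subtype.ext
      rw [MulAut.conjNormal_apply, MulAut.conj_apply, map_mul, map_mul, map_inv]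
      rfl
    rw [this, e.apply_symm_apply]
  have h2 : n₀⁻¹ * (g * g) ∈ Subgroup.centralizer (N : Set G) := by
    rw [mem_centralizer_iff]
    intro x hx
    have h3 := congrArg Subtype.val (DFunLike.congr_fun h1 ⟨x, hx⟩)
    rw [MulAut.conjNormal_apply, MulAut.conjNormal_apply] at h3
    calc x * (n₀⁻¹ * (g * g)) = n₀⁻¹ * (n₀ * x * n₀⁻¹) * (g * g) := by group
      _ = n₀⁻¹ * (g * g * x * (g * g)⁻¹) * (g * g) := by rw [h3]
      _ = n₀⁻¹ * (g * g) * x := by group
  rw [hC, mem_bot, inv_mul_eq_one] at h2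
  have hgg : g * g ∈ N := h2 ▸ (e.symm s).2
  have hgN : g ∈ N := by
    obtain ⟨k, hk⟩ := hr.odd_of_ne_two hr2
    have h4 : (g * g) ^ (k + 1) = g := by
      rw [← pow_two, ← pow_mul, show 2 * (k + 1) = 2 * k + 1 + 1 by omega, pow_succ, ← hk, ← hg,
        pow_orderOf_eq_one, one_mul]
    exact h4 ▸ pow_mem hgg _
  exact hrN (hg ▸ Subgroup.orderOf_dvd_natCard N hgN)

end H28.CITGraph
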