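import Cfsg.Agent.H28.CITGraph.Basic
import Cfsg.Agent.H55.PSLAut
import Cfsg.Agent.H57.SzAut
import Cfsg.Agent.H57.SzCount
import Cfsg.Agent.H57.SzForm
import Cfsg.Agent.H63.SzSubMain
import Cfsg.Agent.H39.ProjField
import Cfsg.Agent.H37.SmallIsoBase
import Cfsg.Agent.H64.SL2Spectrum

/-!
Facts on the groups `PSL₂(q)` and `Sz(q)` used for the prime graph characterisations.
-/

set_option autoImplicit false
set_option linter.unusedSectionVars false
set_option linter.style.haveILetI false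

namespace H28.CITGraph

open Matrix H55

variable {F : Type*} [Field F] [Fintype F]

section charTwo

variable [CharP F 2]

/-- In characteristic two all automorphisms of `PSL₂` fix, up to an inner one, an involution and an
element of order three. -/
theorem psl2_aut_fix :
    ∃ u : PSLn 2 F, orderOf u = 2 ∧ ∀ α : MulAut (PSLn 2 F), ∃ s : PSLn 2 F,
      ((MulAut.conj s)⁻¹ * α) u = u ∧
      ∃ w : PSLn 2 F, Odd (orderOf w) ∧ w ≠ 1 ∧ ((MulAut.conj s)⁻¹ * α) w = w := by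
  haveI : Fact (Nat.Prime 2) := ⟨Nat.prime_two⟩
  let U : SLn 2 F := ⟨!![1, 1; 0, 1], by simp [Matrix.det_fin_two_of]⟩
  let W : SLn 2 F := ⟨!![0, 1; -1, -1], by simp [Matrix.det_fin_two_of]⟩
  have hU : orderOf (pmk U) = 2 := by
    apply orderOf_eq_prime
    · rw [← map_pow]
      have : U ^ 2 = 1 := by
        apply Subtype.ext
        rw [Matrix.SpecialLinearGroup.coe_pow, Matrix.SpecialLinearGroup.coe_one]
        ext i j
        fin_cases i <;> fin_cases j <;>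
          simp [U, pow_two, Matrix.mul_apply, Fin.sum_univ_two, CharTwo.add_self_eq_zero]
      rw [this, map_one]
    · intro h
      obtain ⟨c, -, hc⟩ := pmk_eq_one_iff.1 h
      have := congr_fun (congr_fun hc 0) 1
      simp [U] at this
  have hW : orderOf (pmk W) = 3 := by
    haveI : Fact (Nat.Prime 3) := ⟨Nat.prime_three⟩
    apply orderOf_eq_prime
    · rw [← map_pow]
      have : W ^ 3 = 1 := by
        apply Subtype.ext
        rw [Matrix.SpecialLinearGroup.coe_pow, Matrix.SpecialLinearGroup.coe_one]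
        ext i j
        fin_cases i <;> fin_cases j <;>
          simp [W, pow_succ, Matrix.mul_apply, Fin.sum_univ_two]
      rw [this, map_one]
    · intro h
      obtain ⟨c, -, hc⟩ := pmk_eq_one_iff.1 h
      have := congr_fun (congr_fun hc 0) 1
      simp [W] at this
  refine ⟨pmk U, hU, fun α => ?_⟩
  obtain ⟨g, σ, rfl⟩ := aut_PSL_two α
  -- `g` is a scalar times a matrix of determinant one
  have hd0 : (g : Mat 2 F).det ≠ 0 := (Matrix.GeneralLinearGroup.det g).ne_zero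
  obtain ⟨c, hc⟩ : ∃ c : F, c ^ 2 = (g : Mat 2 F).det :=
    (Finite.injective_iff_surjective.1 (frobenius_inj F 2)) _
  have hc0 : c ≠ 0 := by
    rintro rfl
    exact hd0 (by rw [← hc]; simp)
  let S : SLn 2 F := ⟨c⁻¹ • (g : Mat 2 F), by
    rw [Matrix.det_smul, Fintype.card_fin, ← hc, inv_pow, inv_mul_cancel₀ (pow_ne_zero 2 hc0)]⟩
  have hg : conjP g = MulAut.conj (pmk S) := by
    rw [← conjP_toGL]
    refine (conjP_eq_of_smul (inv_ne_zero hc0) (g := g) (h := Matrix.SpecialLinearGroup.toGL S) ?_).symm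
    rfl
  refine ⟨pmk S, ?_, pmk W, hW ▸ by decide, fun h => ?_, ?_⟩
  · rw [hg, inv_mul_cancel_left, fieldP_pmk]
    congr 1
    apply Subtype.ext
    rw [coe_fieldSL]
    ext i j
    fin_cases i <;> fin_cases j <;> simp [U]
  · rw [h, orderOf_one] at hW; norm_num at hW
  · rw [hg, inv_mul_cancel_left, fieldP_pmk]
    congr 1
    apply Subtype.ext
    rw [coe_fieldSL]
    ext i j
    fin_cases i <;> fin_cases j <;> simp [W]

end charTwo

/-- Over a prime field the squares of automorphisms of `PSL₂` are inner. -/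
theorem psl2_aut_sq (hp : (Nat.card F).Prime) (α : MulAut (PSLn 2 F)) :
    ∃ s : PSLn 2 F, α * α = MulAut.conj s := by
  obtain ⟨g, σ, rfl⟩ := aut_PSL_two α
  have hσ : σ = 1 := by
    apply RingEquiv.ext
    intro x
    rw [Nat.card_eq_fintype_card] at hp
    obtain ⟨a, rfl⟩ := (ZMod.ringEquivOfPrime F hp rfl).surjective x
    rw [RingAut.one_apply]
    exact DFunLike.congr_fun (Subsingleton.elim
      ((σ : F →+* F).comp (ZMod.ringEquivOfPrime F hp rfl).toRingHom)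
      (ZMod.ringEquivOfPrime F hp rfl).toRingHom) a
  subst hσ
  rw [map_one, mul_one, ← map_mul]
  set d := (g : Mat 2 F).det with hd
  have hd0 : d ≠ 0 := (Matrix.GeneralLinearGroup.det g).ne_zero
  let S : SLn 2 F := ⟨d⁻¹ • ((g * g : GL (Fin 2) F) : Mat 2 F), by
    rw [Matrix.det_smul, Fintype.card_fin, Units.val_mul, Matrix.det_mul, ← hd]
    field_simp⟩
  refine ⟨pmk S, ?_⟩
  rw [← conjP_toGL]
  exact (conjP_eq_of_smul (inv_ne_zero hd0) (g := g * g) (h := Matrix.SpecialLinearGroup.toGL S)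
    rfl).symm

/-! ### Suzuki groups -/

theorem szMat_pow_five :
    (!![1, 1, 0, 1; 1, 0, 1, 0; 0, 1, 0, 0; 1, 0, 0, 0] : Matrix (Fin 4) (Fin 4) (ZMod 2)) ^ 5 = 1 := by
  decide +kernel

section suzuki

variable {K : Type*} [Field K] [Fintype K] {m : ℕ}

open H57

theorem sz_aut_fix (hm : 1 ≤ m) (hK : Fintype.card K = 2 ^ (2 * m + 1)) :
    ∃ u : Cfsg.Sz K m, orderOf u = 2 ∧ ∀ α : MulAut (Cfsg.Sz K m), ∃ s : Cfsg.Sz K m,
      ((MulAut.conj s)⁻¹ * α) u = u ∧
      ∃ w : Cfsg.Sz K m, Odd (orderOf w) ∧ w ≠ 1 ∧ ((MulAut.conj s)⁻¹ * α) w = w := by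
  haveI := charTwo hK
  haveI : Fact (Nat.Prime 2) := ⟨Nat.prime_two⟩
  haveI : Fact (Nat.Prime 5) := ⟨by norm_num⟩
  have hu : orderOf (tEl (m := m) hK 0 1) = 2 := by
    apply orderOf_eq_prime
    · rw [pow_two, tEl_mul]
      simp [← tEl_zero hK, th_zero, add_self_zero hK]
    · rw [← tEl_zero hK]
      intro h
      exact one_ne_zero (tEl_inj hK h).2
  set w := tEl (m := m) hK 0 1 * wEl hK with hw
  have hw1 : w ≠ 1 := by
    intro h
    have h1 := congrArg (fun g : Cfsg.Sz K m => (g.1 : Matrix (Fin 4) (Fin 4) K) 3 3) h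
    simp only [hw, Subgroup.coe_mul, Matrix.SpecialLinearGroup.coe_mul, OneMemClass.coe_one,
      Matrix.SpecialLinearGroup.coe_one] at h1
    simp [tEl, wEl, tSL, wSL, tMat, Cfsg.suzukiForm, Matrix.mul_apply, Fin.sum_univ_four] at h1
  have hw5 : orderOf w = 5 := by
    apply orderOf_eq_prime _ hw1
    apply Subtype.ext
    apply Subtype.ext
    let M2 : Matrix (Fin 4) (Fin 4) (ZMod 2) := !![1, 1, 0, 1; 1, 0, 1, 0; 0, 1, 0, 0; 1, 0, 0, 0]
    have hM : ((w.1 : Matrix.SpecialLinearGroup (Fin 4) K) : Matrix (Fin 4) (Fin 4) K) =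
        (ZMod.castHom (dvd_refl 2) K).mapMatrix M2 := by
      ext i j
      simp only [hw, Subgroup.coe_mul, Matrix.SpecialLinearGroup.coe_mul]
      fin_cases i <;> fin_cases j <;>
        simp [tEl, wEl, tSL, wSL, tMat, oF, M2, Cfsg.suzukiForm, Matrix.mul_apply, Fin.sum_univ_four]
    have h5 : M2 ^ 5 = 1 := szMat_pow_five
    rw [SubmonoidClass.coe_pow, Matrix.SpecialLinearGroup.coe_pow, hM, ← map_pow, h5, map_one]
    rfl
  refine ⟨tEl hK 0 1, hu, fun α => ?_⟩
  obtain ⟨g, σ, rfl⟩ := aut_decomp hm hK α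
  have hwfix : fieldAut hm hK σ (wEl (m := m) hK) = wEl hK :=
    Subtype.ext (fieldSL_gen hK σ).2.2
  refine ⟨g, ?_, w, hw5 ▸ by decide, hw1, ?_⟩
  · rw [inv_mul_cancel_left, fieldAut_tEl, map_zero, map_one]
  · rw [inv_mul_cancel_left, hw, map_mul, fieldAut_tEl, map_zero, map_one, hwfix]

theorem sz_no_odd_mixed (hm : 1 ≤ m) (hK : Fintype.card K = 2 ^ (2 * m + 1)) {r s : ℕ}
    (hr : r.Prime) (hs : s.Prime) (hr1 : r ∣ 2 ^ (2 * m + 1) - 1)
    (hs2 : s ∣ (2 ^ (2 * m + 1)) ^ 2 + 1) :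
    ¬ ∃ x : Cfsg.Sz K m, orderOf x = r * s := by
  rintro ⟨x, hx⟩
  have h1 : orderOf (x ^ s) = r := by
    rw [orderOf_pow' _ hs.ne_zero, hx, Nat.gcd_eq_right (dvd_mul_left s r),
      Nat.mul_div_cancel _ hs.pos]
  obtain ⟨e⟩ := centralizer_split hm hK hr h1 hr1
  have hxc : x ∈ Subgroup.centralizer {x ^ s} :=
    Subgroup.mem_centralizer_singleton_iff.mpr ((Commute.refl x).pow_right s).eq
  have h2 := Subgroup.orderOf_dvd_natCard _ hxc
  rw [Nat.card_congr e.toEquiv, card_dSub, hx] at h2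
  exact not_dvd_both hs ((dvd_mul_left s r).trans h2) hs2

theorem sz_no_two_mixed (hm : 1 ≤ m) (hK : Fintype.card K = 2 ^ (2 * m + 1)) {r : ℕ}
    (hr : r.Prime) (hr2 : r ≠ 2) : ¬ ∃ x : Cfsg.Sz K m, orderOf x = 2 * r := by
  rintro ⟨x, hx⟩
  haveI : Fact (Nat.Prime 2) := ⟨Nat.prime_two⟩
  have h1 : orderOf (x ^ r) = 2 := by
    rw [orderOf_pow' _ hr.ne_zero, hx, Nat.gcd_eq_right (dvd_mul_left r 2),
      Nat.mul_div_cancel _ hr.pos]
  obtain ⟨e⟩ := centralizer_two hm hK h1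
  have hxc : x ∈ Subgroup.centralizer {x ^ r} :=
    Subgroup.mem_centralizer_singleton_iff.mpr ((Commute.refl x).pow_right r).eq
  have h2 := Subgroup.orderOf_dvd_natCard _ hxc
  obtain ⟨n, hn⟩ := IsPGroup.iff_card.1 (tSub_isPGroup (m := m) hK)
  rw [Nat.card_congr e.toEquiv, hn, hx] at h2
  exact hr2 ((Nat.prime_dvd_prime_iff_eq hr Nat.prime_two).1
    (hr.dvd_of_dvd_pow ((dvd_mul_left r 2).trans h2)))

/-- Suzuki groups over fields of the same cardinality are isomorphic. -/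
theorem sz_equiv_of_card {K' : Type*} [Field K'] [Fintype K'] (hm : 1 ≤ m)
    (hK : Fintype.card K = 2 ^ (2 * m + 1)) (hK' : Fintype.card K' = 2 ^ (2 * m + 1)) :
    Nonempty (Cfsg.Sz K m ≃* Cfsg.Sz K' m) := by
  let ι := FiniteField.ringEquivOfCardEq (K := K) (K' := K') (hK.trans hK'.symm)
  let f := H63.SzSub.szMap hm hK' hK dvd_rfl (ι : K →+* K')
  have hf : Function.Injective f := H63.SzSub.szMap_injective _ _ _ _ _
  refine ⟨MulEquiv.ofBijective f ((Nat.bijective_iff_injective_and_card f).2 ⟨hf, ?_⟩)⟩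
  rw [card_sz hm hK, card_sz hm hK']

end suzuki

/-! ### `PSL₂` in characteristic two -/

section spectrum

variable {E : Type*} [Field E] [Fintype E] {n : ℕ}

theorem charTwo_of_card (hE : Fintype.card E = 2 ^ n) : CharP E 2 := by
  obtain ⟨p, hp⟩ := CharP.exists E
  haveI := hp
  obtain ⟨k, hpr, hk⟩ := FiniteField.card E p
  have h : p ∣ 2 ^ n := hE ▸ hk ▸ dvd_pow_self p k.ne_zero
  obtain rfl := (Nat.prime_dvd_prime_iff_eq hpr Nat.prime_two).1 (hpr.dvd_of_dvd_pow h)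
  exact hp

theorem psl2_two_no_mixed (hE : Fintype.card E = 2 ^ n) {r s : ℕ} (hr : r.Prime) (hs : s.Prime)
    (hr2 : r ≠ 2) (hr1 : r ∣ 2 ^ n - 1) (hs1 : s ∣ 2 ^ n + 1 ∨ s = 2) :
    ¬ ∃ x : Matrix.ProjectiveSpecialLinearGroup (Fin 2) E, orderOf x = r * s := by
  rintro ⟨x, hx⟩
  haveI := charTwo_of_card hE
  haveI : Fact (Nat.Prime 2) := ⟨Nat.prime_two⟩
  have hn : n ≠ 0 := by
    rintro rfl
    exact (Fintype.one_lt_card (α := E)).ne' (by rw [hE, pow_zero])
  have heven : 2 ∣ 2 ^ n := dvd_pow_self 2 hn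
  have h1 : 1 ≤ 2 ^ n := Nat.one_le_two_pow
  have hg : Nat.gcd 2 (Fintype.card E - 1) = 1 := by
    apply Nat.Coprime.gcd_eq_one
    rw [Nat.coprime_two_left, hE, Nat.odd_iff]
    omega
  have hmem : r * s ∈ Set.range (orderOf : Matrix.ProjectiveSpecialLinearGroup (Fin 2) E → ℕ) :=
    ⟨x, hx⟩
  rw [H64.psl2_spectrum 2, hg, Nat.div_one, Nat.div_one, hE] at hmem
  have two : ∀ d, d ∣ 2 ^ n - 1 → d ∣ 2 ^ n + 1 → d ∣ 2 := fun d ha hb => by
    have := Nat.dvd_sub hb ha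
    rwa [show 2 ^ n + 1 - (2 ^ n - 1) = 2 by omega] at this
  have hr' : ¬ r ∣ 2 := fun h => hr2 ((Nat.prime_dvd_prime_iff_eq hr Nat.prime_two).1 h)
  rcases hmem with h | h | h
  · exact hr' ((dvd_mul_right r s).trans h)
  · have hsd : s ∣ 2 ^ n - 1 := (dvd_mul_left s r).trans h
    have h2 : s ∣ 2 := by
      rcases hs1 with h' | rfl
      · exact two s hsd h'
      · exact dvd_rfl
    obtain rfl := (Nat.prime_dvd_prime_iff_eq hs Nat.prime_two).1 h2
    omega
  · exact hr' (two r hr1 ((dvd_mul_right r s).trans h))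

theorem card_psl2_two (hn : n ≠ 0) (hE : Fintype.card E = 2 ^ n) :
    Nat.card (Matrix.ProjectiveSpecialLinearGroup (Fin 2) E) = 2 ^ n * ((2 ^ n - 1) * (2 ^ n + 1)) := by
  have h := H39.card_PSL2_mul (F := E)
  rw [hE, Nat.Coprime.gcd_eq_one, one_mul] at h
  · rw [h, mul_comm (2 ^ n - 1) (2 ^ n + 1), ← Nat.sq_sub_sq, one_pow]
  · rw [Nat.coprime_two_left]
    exact Nat.Even.sub_odd Nat.one_le_two_pow (Nat.even_pow.2 ⟨even_two, hn⟩) odd_one

end spectrum

end H28.CITGraph
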